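import Groth.Agent.MagnetA1.Pts
import Groth.Agent.GITQuot.Orbit
import Groth.Prelude.Def_Magnet3
import Mathlib.AlgebraicGeometry.Morphisms.FlatDescent
import Mathlib.AlgebraicGeometry.Morphisms.FlatMono
import Mathlib.AlgebraicGeometry.Morphisms.Etale
import Mathlib.FieldTheory.RatFunc.Basic

/-!
An equivariant morphism for the multiplicative affine line which is an isomorphism on fixed points and
étale near the fixed points is an isomorphism: it is universally injective by comparing the two orbit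
lines near their limits, and it is an isomorphism after the flat surjective base change along the
translates of the étale neighbourhood.
-/

noncomputable section

set_option autoImplicit false
set_option linter.style.haveILetI false
set_option linter.unusedSectionVars false
set_option maxHeartbeats 1000000

universe u

open CategoryTheory CategoryTheory.Limits MonoidalCategory CartesianMonoidalCategory MonObj AlgebraicGeometry Opposite
open Magnet

namespace Groth.Agent.MagnetA1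

variable {S : Scheme.{u}}

/-- The affine line over a field-valued base point. -/
abbrev fieldObj {K : Type u} [Field K] (τ : Spec (CommRingCat.of K) ⟶ S) : Over S := Over.mk τ

variable {K : Type u} [Field K] (τ : Spec (CommRingCat.of K) ⟶ S)

def line : Over S := Over.mk (Spec.map (CommRingCat.ofHom (Polynomial.C : K →+* Polynomial K)) ≫ τ)

def gen : Over S :=
  Over.mk (Spec.map (CommRingCat.ofHom ((algebraMap (Polynomial K) (RatFunc K)).comp Polynomial.C)) ≫ τ)

def proj : line τ ⟶ fieldObj τ := Over.homMk (Spec.map (CommRingCat.ofHom Polynomial.C)) rfl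

def orig : fieldObj τ ⟶ line τ :=
  Over.homMk (Spec.map (CommRingCat.ofHom (Polynomial.evalRingHom (0 : K)))) (by
    show Spec.map _ ≫ Spec.map _ ≫ τ = τ
    rw [← Spec.map_comp_assoc]
    have : CommRingCat.ofHom (Polynomial.C : K →+* Polynomial K) ≫
        CommRingCat.ofHom (Polynomial.evalRingHom (0 : K)) = 𝟙 _ := by ext r; simp
    rw [this, Spec.map_id, Category.id_comp])

def toLine : gen τ ⟶ line τ :=
  Over.homMk (Spec.map (CommRingCat.ofHom (algebraMap (Polynomial K) (RatFunc K)))) (by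
    show Spec.map _ ≫ Spec.map _ ≫ τ = Spec.map _ ≫ τ
    rw [← Spec.map_comp_assoc]
    rfl)

theorem orig_proj : orig τ ≫ proj τ = 𝟙 _ := by
  ext : 1
  show Spec.map _ ≫ Spec.map _ = 𝟙 _
  rw [← Spec.map_comp]
  have : CommRingCat.ofHom (Polynomial.C : K →+* Polynomial K) ≫
      CommRingCat.ofHom (Polynomial.evalRingHom (0 : K)) = 𝟙 _ := by ext r; simp
  rw [this, Spec.map_id]

theorem exists_coord : ∃ (g : line τ ⟶ AMonS S ℕ) (h : gen τ ⟶ AMonS S ℤ),
    val (orig τ ≫ g) = 0 ∧ h ≫ incl S = toLine τ ≫ g := by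
  obtain ⟨g, hg⟩ := exists_val (T := line τ)
    ((Scheme.ΓSpecIso (CommRingCat.of (Polynomial K))).inv (Polynomial.X : Polynomial K))
  have hu : IsUnit (val (toLine τ ≫ g)) := by
    rw [val_comp, hg]
    show IsUnit ((Spec.map (CommRingCat.ofHom (algebraMap (Polynomial K) (RatFunc K)))).appTop
      ((Scheme.ΓSpecIso (CommRingCat.of (Polynomial K))).inv (Polynomial.X : Polynomial K)))
    rw [← CommRingCat.comp_apply, ← Scheme.ΓSpecIso_inv_naturality, CommRingCat.comp_apply]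
    refine IsUnit.map _ ?_
    refine (isUnit_iff_ne_zero (G₀ := RatFunc K)).2 ?_
    show algebraMap (Polynomial K) (RatFunc K) Polynomial.X ≠ 0
    rw [Ne, map_eq_zero_iff _ (IsFractionRing.injective (Polynomial K) (RatFunc K))]
    exact Polynomial.X_ne_zero
  obtain ⟨h, hh⟩ := exists_torus (T := gen τ) hu.unit
  refine ⟨g, h, ?_, val_injective (by rw [hh, IsUnit.unit_spec])⟩
  rw [val_comp, hg]
  show (Spec.map (CommRingCat.ofHom (Polynomial.evalRingHom (0 : K)))).appTop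
      ((Scheme.ΓSpecIso (CommRingCat.of (Polynomial K))).inv (Polynomial.X : Polynomial K)) = 0
  rw [← CommRingCat.comp_apply, ← Scheme.ΓSpecIso_inv_naturality, CommRingCat.comp_apply]
  show (Scheme.ΓSpecIso (CommRingCat.of K)).inv (Polynomial.eval (0 : K) (Polynomial.X : Polynomial K)) = 0
  rw [Polynomial.eval_X, map_zero]

theorem toLine_mem {W : (line τ).left.Opens} {p : (line τ).left} (hp : p ∈ W) (q : (gen τ).left) :
    (toLine τ).left q ∈ W := by
  refine Specializes.mem_open (show (toLine τ).left q ⤳ p from ?_) W.isOpen hp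
  refine (PrimeSpectrum.le_iff_specializes _ _).1 ?_
  show Ideal.comap (algebraMap (Polynomial K) (RatFunc K)) (q : PrimeSpectrum (RatFunc K)).asIdeal ≤ _
  rw [Ideal.eq_bot_of_prime (q : PrimeSpectrum (RatFunc K)).asIdeal, ← RingHom.ker_eq_comap_bot,
    (RingHom.injective_iff_ker_eq_bot _).1 (IsFractionRing.injective (Polynomial K) (RatFunc K))]
  exact bot_le

theorem epi_gen : Epi ((toLine τ ≫ proj τ).left) := by
  let φ : K →+* RatFunc K := (algebraMap (Polynomial K) (RatFunc K)).comp Polynomial.C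
  have e : (toLine τ ≫ proj τ).left = Spec.map (CommRingCat.ofHom φ) := by
    show Spec.map _ ≫ Spec.map _ = _
    rw [← Spec.map_comp]
    rfl
  rw [e]
  haveI : Subsingleton ↥(Spec (CommRingCat.of K)) := inferInstanceAs (Subsingleton (PrimeSpectrum K))
  have hF : Flat (Spec.map (CommRingCat.ofHom φ)) := (HasRingHomProperty.Spec_iff (P := @Flat)).2 (by
    letI := φ.toAlgebra
    exact (RingHom.flat_algebraMap_iff (R := K) (S := RatFunc K)).2 inferInstance)
  have hS : Surjective (Spec.map (CommRingCat.ofHom φ)) :=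
    ⟨fun x => ⟨(⊥ : PrimeSpectrum (RatFunc K)), Subsingleton.elim _ _⟩⟩
  exact @Flat.epi_of_flat_of_surjective _ _ (Spec.map (CommRingCat.ofHom φ)) hF hS

/-- The zero of the monoid. -/
theorem exists_zeroPt : ∃ o : ∀ T : Over S, T ⟶ AMonS S ℕ, (∀ T, val (o T) = 0) ∧
    (∀ {T T' : Over S} (t : T' ⟶ T), t ≫ o T = o T') ∧ ∀ {T : Over S} (g : T ⟶ AMonS S ℕ), g * o T = o T := by
  choose o ho using fun T : Over S => exists_val (T := T) 0
  exact ⟨o, ho, fun {T T'} t => val_injective (by rw [val_comp, ho, ho, map_zero]),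
    fun {T} g => val_injective (by rw [val_mul, ho, mul_zero])⟩

variable {X Y : Over S} {a : MonAct (AMonS S ℕ) X} {b : MonAct (AMonS S ℕ) Y} (f : X ⟶ Y)
  (hf : MonAct.IsEquivariant a b f)

theorem isFixed_zero (x : fieldObj τ ⟶ X) (o : fieldObj τ ⟶ AMonS S ℕ) (ho : val o = 0) :
    ∀ (T' : Over S) (t : T' ⟶ fieldObj τ) (g : T' ⟶ AMonS S ℕ),
      lift g (t ≫ lift o x ≫ a.act) ≫ a.act = t ≫ lift o x ≫ a.act := by
  intro T' t g
  rw [comp_lift_assoc, ← a.lift_mul_act]
  congr 2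
  refine val_injective ?_
  rw [val_mul, val_comp, ho, map_zero, mul_zero]

include hf in
theorem act_comp {T : Over S} (g : T ⟶ AMonS S ℕ) (x : T ⟶ X) :
    (lift g x ≫ a.act) ≫ f = lift g (x ≫ f) ≫ b.act := by
  rw [Category.assoc, hf, lift_whiskerLeft_assoc]

variable [h1 : IsIso (MonAct.fixedPsh.map f hf)] (V : X.left.Opens) [hV : Etale (V.ι ≫ f.left)]
  (h3 : ∀ (T : Over S) (x : (MonAct.fixedPsh a).obj (op T)), x.1.left ⁻¹ᵁ V = ⊤)

include h1 h3 in
/-- Field-valued points with the same image are equal. -/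
theorem fieldPts_injective {x₁ x₂ : fieldObj τ ⟶ X} (h : x₁ ≫ f = x₂ ≫ f) : x₁ = x₂ := by
  obtain ⟨g, t, hg, ht⟩ := exists_coord τ
  let φ : (fieldObj τ ⟶ X) → (line τ ⟶ X) := fun x => lift g (proj τ ≫ x) ≫ a.act
  have hφ : ∀ x, orig τ ≫ φ x = lift (orig τ ≫ g) x ≫ a.act := fun x => by
    rw [comp_lift_assoc, ← Category.assoc (orig τ) (proj τ) x, orig_proj, Category.id_comp]
  have hφf : φ x₁ ≫ f = φ x₂ ≫ f := by
    simp only [φ, act_comp f hf, Category.assoc (proj τ), h]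
  let F : ∀ x : fieldObj τ ⟶ X, (MonAct.fixedPsh a).obj (op (fieldObj τ)) :=
    fun x => ⟨lift (orig τ ≫ g) x ≫ a.act, isFixed_zero τ x _ hg⟩
  have hF : F x₁ = F x₂ := by
    refine ((ConcreteCategory.isIso_iff_bijective ((MonAct.fixedPsh.map f hf).app (op (fieldObj τ)))).1
      inferInstance).1 (Subtype.ext ?_)
    rw [MonAct.fixedPsh.map_app_coe, MonAct.fixedPsh.map_app_coe]
    show (lift _ x₁ ≫ a.act) ≫ f = (lift _ x₂ ≫ a.act) ≫ f
    rw [act_comp f hf, act_comp f hf, h]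
  -- the open set where both orbits lie in `V`
  let W : (line τ).left.Opens := (φ x₁).left ⁻¹ᵁ V ⊓ (φ x₂).left ⁻¹ᵁ V
  let c : (fieldObj τ).left := (⊥ : PrimeSpectrum K)
  have hc : ∀ x, (φ x).left ((orig τ).left c) ∈ V := fun x => by
    rw [← Scheme.Hom.comp_apply, ← Over.comp_left, hφ]
    exact (show c ∈ (F x).1.left ⁻¹ᵁ V by rw [h3 _ (F x)]; trivial)
  have h0 : (orig τ).left c ∈ W := ⟨hc x₁, hc x₂⟩
  have hr : ∀ x, W ≤ (φ x).left ⁻¹ᵁ V → Set.range (W.ι ≫ (φ x).left) ⊆ Set.range V.ι := fun x hx => by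
    rintro _ ⟨w, rfl⟩
    rw [Scheme.Opens.range_ι]
    exact hx w.2
  let ψ₁ : (W : Scheme.{u}) ⟶ V := IsOpenImmersion.lift V.ι _ (hr x₁ inf_le_left)
  let ψ₂ : (W : Scheme.{u}) ⟶ V := IsOpenImmersion.lift V.ι _ (hr x₂ inf_le_right)
  have e₁ : ψ₁ ≫ V.ι = W.ι ≫ (φ x₁).left := IsOpenImmersion.lift_fac _ _ _
  have e₂ : ψ₂ ≫ V.ι = W.ι ≫ (φ x₂).left := IsOpenImmersion.lift_fac _ _ _
  obtain ⟨d, hd₁, hd₂⟩ : ∃ d : (W : Scheme.{u}) ⟶ pullback (V.ι ≫ f.left) (V.ι ≫ f.left),
      d ≫ pullback.fst _ _ = ψ₁ ∧ d ≫ pullback.snd _ _ = ψ₂ :=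
    ⟨pullback.lift ψ₁ ψ₂ (by rw [reassoc_of% e₁, reassoc_of% e₂, ← Over.comp_left, ← Over.comp_left, hφf]),
      pullback.lift_fst _ _ _, pullback.lift_snd _ _ _⟩
  let Δ := pullback.diagonal (V.ι ≫ f.left)
  obtain ⟨z, hz⟩ : ∃ z : (fieldObj τ).left ⟶ W, z ≫ W.ι = (orig τ).left := by
    refine ⟨IsOpenImmersion.lift W.ι (orig τ).left ?_, IsOpenImmersion.lift_fac _ _ _⟩
    rintro _ ⟨p, rfl⟩
    rw [Scheme.Opens.range_ι, show p = c from Subsingleton.elim (α := PrimeSpectrum K) _ _]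
    exact h0
  have hzψ : z ≫ ψ₁ = z ≫ ψ₂ := by
    rw [← cancel_mono V.ι, Category.assoc, e₁, Category.assoc, e₂, reassoc_of% hz, reassoc_of% hz,
      ← Over.comp_left, ← Over.comp_left, hφ, hφ]
    exact congrArg (fun q => q.1.left) hF
  have hzd : z ≫ d = (z ≫ ψ₁) ≫ Δ := by
    apply pullback.hom_ext
    · rw [Category.assoc, hd₁, Category.assoc, pullback.diagonal_fst, Category.comp_id]
    · rw [Category.assoc, hd₂, Category.assoc, pullback.diagonal_snd, Category.comp_id, hzψ]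
  have hEopen : z c ∈ d ⁻¹ᵁ Δ.opensRange := ⟨(z ≫ ψ₁) c, by
    rw [← Scheme.Hom.comp_apply, ← hzd, Scheme.Hom.comp_apply]⟩
  have hgen : ∀ q, (toLine τ).left q ∈ W.ι ''ᵁ (d ⁻¹ᵁ Δ.opensRange) := fun q =>
    toLine_mem τ (W := W.ι ''ᵁ (d ⁻¹ᵁ Δ.opensRange)) (p := W.ι (z c)) ⟨z c, hEopen, rfl⟩ q
  obtain ⟨v, hv⟩ : ∃ v : (gen τ).left ⟶ W, v ≫ W.ι = (toLine τ).left := by
    refine ⟨IsOpenImmersion.lift W.ι (toLine τ).left ?_, IsOpenImmersion.lift_fac _ _ _⟩
    rintro _ ⟨q, rfl⟩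
    obtain ⟨w, -, hw⟩ := hgen q
    exact ⟨w, hw⟩
  obtain ⟨m, hm⟩ : ∃ m, m ≫ Δ = v ≫ d := by
    refine ⟨IsOpenImmersion.lift Δ (v ≫ d) ?_, IsOpenImmersion.lift_fac _ _ _⟩
    rintro _ ⟨q, rfl⟩
    obtain ⟨w, hw, hwq⟩ := hgen q
    have : v q = w := W.ι.isOpenEmbedding.injective (by rw [← Scheme.Hom.comp_apply, hv]; exact hwq.symm)
    rw [Scheme.Hom.comp_apply, this]
    exact hw
  have hvψ : v ≫ ψ₁ = v ≫ ψ₂ := by
    have a₁ := congr($hm ≫ pullback.fst _ _)
    have a₂ := congr($hm ≫ pullback.snd _ _)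
    simp only [Δ, Category.assoc, pullback.diagonal_fst, pullback.diagonal_snd, hd₁, hd₂,
      Category.comp_id] at a₁ a₂
    rw [← a₁, ← a₂]
  have hpts : toLine τ ≫ φ x₁ = toLine τ ≫ φ x₂ := Over.OverMorphism.ext (by
    show (toLine τ).left ≫ (φ x₁).left = (toLine τ).left ≫ (φ x₂).left
    have h' := congr($hvψ ≫ V.ι)
    rw [Category.assoc, Category.assoc, e₁, e₂, reassoc_of% hv, reassoc_of% hv] at h'
    exact h')
  -- translate back
  have key : ∀ x, lift (t ≫ inv S ≫ incl S) (toLine τ ≫ φ x) ≫ a.act = (toLine τ ≫ proj τ) ≫ x := fun x => by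
    rw [comp_lift_assoc, ← ht, ← a.lift_mul_act, inv_mul_incl, a.lift_one_act, Category.assoc]
  have hgp : (toLine τ ≫ proj τ) ≫ x₁ = (toLine τ ≫ proj τ) ≫ x₂ := by rw [← key, ← key, hpts]
  refine Over.OverMorphism.ext ?_
  haveI := epi_gen τ
  exact (cancel_epi (toLine τ ≫ proj τ).left).1 (congrArg (fun q => q.left) hgp)

include h1 h3 in
theorem surjective_diagonal {V' : Scheme.{u}} (j : V' ⟶ X.left) [Mono j] :
    Surjective (pullback.diagonal (j ≫ f.left)) := by
  refine ⟨fun p => ?_⟩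
  let ι₀ := (pullback (j ≫ f.left) (j ≫ f.left)).fromSpecResidueField p
  let τ₀ := ι₀ ≫ pullback.fst (j ≫ f.left) (j ≫ f.left) ≫ j ≫ X.hom
  let x₁ : fieldObj τ₀ ⟶ X := Over.homMk (ι₀ ≫ pullback.fst _ _ ≫ j) (by simp [τ₀]; rfl)
  let x₂ : fieldObj τ₀ ⟶ X := Over.homMk (ι₀ ≫ pullback.snd _ _ ≫ j) (by
    show (ι₀ ≫ pullback.snd _ _ ≫ j) ≫ X.hom = ι₀ ≫ pullback.fst _ _ ≫ j ≫ X.hom
    rw [← Over.w f]
    have h := congr(ι₀ ≫ $((pullback.condition (f := j ≫ f.left) (g := j ≫ f.left)).symm) ≫ Y.hom)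
    simp only [Category.assoc] at h ⊢
    exact h)
  have e : x₁ = x₂ := fieldPts_injective τ₀ f hf V h3 (Over.OverMorphism.ext (by
    show (ι₀ ≫ pullback.fst _ _ ≫ j) ≫ f.left = (ι₀ ≫ pullback.snd _ _ ≫ j) ≫ f.left
    rw [Category.assoc, Category.assoc, Category.assoc, Category.assoc, pullback.condition]))
  have e' : ι₀ ≫ pullback.fst _ _ = ι₀ ≫ pullback.snd _ _ := by
    rw [← cancel_mono j, Category.assoc, Category.assoc]
    exact congrArg (fun q => q.left) e
  have he : ι₀ = (ι₀ ≫ pullback.fst _ _) ≫ pullback.diagonal (j ≫ f.left) := by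
    apply pullback.hom_ext
    · simp
    · simp [e']
  obtain ⟨c, hc⟩ : ∃ c, ι₀ c = p := ⟨IsLocalRing.closedPoint _, Scheme.fromSpecResidueField_apply _ _⟩
  exact ⟨(ι₀ ≫ pullback.fst _ _) c, by rw [← Scheme.Hom.comp_apply, ← he]; exact hc⟩

include h1 h3 in
theorem isOpenImmersion_res : IsOpenImmersion (V.ι ≫ f.left) := by
  haveI := surjective_diagonal f hf V h3 V.ι
  haveI : IsIso (pullback.diagonal (V.ι ≫ f.left)) := isIso_of_isOpenImmersion_of_opensRange_eq_top _
    (TopologicalSpace.Opens.ext (Set.range_eq_univ.2 (pullback.diagonal (V.ι ≫ f.left)).surjective))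
  haveI : Mono (V.ι ≫ f.left) := (pullback.isIso_diagonal_iff _).1 inferInstance
  exact IsOpenImmersion.of_flat_of_mono _

include h1 h3 in
theorem injective : Function.Injective f.left := fun p q h => by
  haveI := surjective_diagonal f hf V h3 (𝟙 X.left)
  obtain ⟨w, hw₁, hw₂⟩ := Scheme.Pullback.exists_preimage_pullback (f := 𝟙 X.left ≫ f.left) (g := 𝟙 X.left ≫ f.left) p q
    (by simpa using h)
  obtain ⟨r, rfl⟩ := (pullback.diagonal (𝟙 X.left ≫ f.left)).surjective w
  rw [← Scheme.Hom.comp_apply, pullback.diagonal_fst] at hw₁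
  rw [← Scheme.Hom.comp_apply, pullback.diagonal_snd] at hw₂
  exact hw₁.symm.trans hw₂

include h1 h3 in
theorem isIso [IsLocallyNoetherian Y.left] [IsAffineHom (AMonS S ℤ).hom] [Flat (AMonS S ℤ).hom] : IsIso f := by
  let V₀ : Over S := Over.mk (V.ι ≫ X.hom)
  let jX : V₀ ⟶ X := Over.homMk V.ι rfl
  let jY : V₀ ⟶ Y := jX ≫ f
  haveI : IsOpenImmersion jY.left := isOpenImmersion_res f hf V h3
  let G := AMonS S ℤ
  let qX : G ⊗ V₀ ⟶ X := lift (fst G V₀ ≫ incl S) (snd G V₀ ≫ jX) ≫ a.act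
  let σ : G ⊗ Y ⟶ G ⊗ Y := lift (fst G Y) (lift (fst G Y ≫ incl S) (snd G Y) ≫ b.act)
  let σ' : G ⊗ Y ⟶ G ⊗ Y := lift (fst G Y) (lift (fst G Y ≫ inv S ≫ incl S) (snd G Y) ≫ b.act)
  haveI : IsIso σ := by
    refine ⟨σ', ?_, ?_⟩ <;>
    · apply CartesianMonoidalCategory.hom_ext
      · simp [σ, σ']
      · simp only [σ, σ', Category.assoc, lift_snd, comp_lift_assoc, lift_fst_assoc, Category.id_comp]
        simp only [← b.lift_mul_act, incl_mul_inv, inv_mul_incl, b.lift_one_act]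
  let q : G ⊗ V₀ ⟶ Y := qX ≫ f
  have hq : q = (G ◁ jY) ≫ σ ≫ snd G Y := by
    show qX ≫ f = _
    rw [act_comp f hf, lift_snd, comp_lift_assoc, whiskerLeft_fst_assoc, whiskerLeft_snd, Category.assoc]
  haveI : IsIso σ.left := inferInstanceAs (IsIso ((Over.forget S).map σ))
  haveI : Flat (snd G Y).left := inferInstanceAs (Flat (pullback.snd G.hom Y.hom))
  haveI : IsAffineHom (snd G Y).left := MorphismProperty.pullback_snd (P := @IsAffineHom) G.hom Y.hom ‹_›
  have hsq := (GITQuot.isPullback_whiskerLeft (φ := jY) (Z := G)).flip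
  haveI : IsOpenImmersion (G ◁ jY).left := MorphismProperty.of_isPullback (P := @IsOpenImmersion) hsq.flip inferInstance
  haveI : QuasiCompact (G ◁ jY).left := MorphismProperty.of_isPullback (P := @QuasiCompact) hsq.flip
    (inferInstanceAs (QuasiCompact jY.left))
  haveI : Flat q.left := by rw [hq, Over.comp_left, Over.comp_left]; infer_instance
  haveI : QuasiCompact q.left := by rw [hq, Over.comp_left, Over.comp_left]; infer_instance
  haveI : Surjective q.left := by
    refine ⟨fun y => ?_⟩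
    let τ := Y.left.fromSpecResidueField y ≫ Y.hom
    let y₀ : fieldObj τ ⟶ Y := Over.homMk (Y.left.fromSpecResidueField y) rfl
    obtain ⟨g, t, hg, ht⟩ := exists_coord τ
    let ψ : line τ ⟶ Y := lift g (proj τ ≫ y₀) ≫ b.act
    obtain ⟨x₀, hx₀⟩ := ((ConcreteCategory.isIso_iff_bijective ((MonAct.fixedPsh.map f hf).app (op (fieldObj τ)))).1
      inferInstance).2 ⟨lift (orig τ ≫ g) y₀ ≫ b.act, isFixed_zero τ y₀ _ hg⟩
    have hψ : orig τ ≫ ψ = x₀.1 ≫ f := by
      rw [← MonAct.fixedPsh.map_app_coe f hf (op (fieldObj τ)) x₀, hx₀, comp_lift_assoc,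
        ← Category.assoc (orig τ) (proj τ) y₀, orig_proj, Category.id_comp]
    let c : (fieldObj τ).left := IsLocalRing.closedPoint _
    have hmem : (orig τ).left c ∈ ψ.left ⁻¹ᵁ jY.left.opensRange := by
      show ψ.left ((orig τ).left c) ∈ jY.left.opensRange
      rw [← Scheme.Hom.comp_apply, ← Over.comp_left, hψ]
      have hc : c ∈ x₀.1.left ⁻¹ᵁ V := by rw [h3 _ x₀]; trivial
      exact ⟨⟨x₀.1.left c, hc⟩, rfl⟩
    have hl : Set.range (toLine τ ≫ ψ).left ⊆ Set.range jY.left := by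
      rintro _ ⟨r, rfl⟩
      exact toLine_mem τ hmem r
    let v : gen τ ⟶ V₀ := Over.homMk (IsOpenImmersion.lift jY.left (toLine τ ≫ ψ).left hl) (by
      rw [← Over.w jY, IsOpenImmersion.lift_fac_assoc, Over.w])
    have hv : v ≫ jY = toLine τ ≫ ψ := Over.OverMorphism.ext (IsOpenImmersion.lift_fac _ _ _)
    have hp : lift (t ≫ inv S) v ≫ q = (toLine τ ≫ proj τ) ≫ y₀ := by
      show _ ≫ qX ≫ f = _
      simp only [qX, act_comp f hf, comp_lift_assoc, lift_fst_assoc, lift_snd_assoc, Category.assoc]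
      have p₁ : lift (t ≫ inv S) v ≫ fst G V₀ = t ≫ inv S := lift_fst _ _
      have p₂ : lift (t ≫ inv S) v ≫ snd G V₀ = v := lift_snd _ _
      rw [reassoc_of% p₁, reassoc_of% p₂, show v ≫ jX ≫ f = toLine τ ≫ ψ from hv, comp_lift_assoc, ← ht, ← b.lift_mul_act, inv_mul_incl,
        b.lift_one_act]
    let r : (gen τ).left := (⊥ : PrimeSpectrum (RatFunc (Y.left.residueField y)))
    refine ⟨(lift (t ≫ inv S) v).left r, ?_⟩
    rw [← Scheme.Hom.comp_apply, ← Over.comp_left, hp, Over.comp_left, Scheme.Hom.comp_apply]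
    show Y.left.fromSpecResidueField y _ = y
    exact Scheme.fromSpecResidueField_apply _ _
  have inj := injective f hf V h3
  have hpb : IsPullback (𝟙 (G ⊗ V₀).left) qX.left q.left f.left := by
    refine IsPullback.of_isLimit' ⟨by simp [q]⟩ (PullbackCone.IsLimit.mk _ (fun s => s.fst) (fun s => by simp)
      (fun s => ?_) (fun s m h1 _ => by simpa using h1))
    let T : Over S := Over.mk (s.fst ≫ (G ⊗ V₀).hom)
    let p : T ⟶ G ⊗ V₀ := Over.homMk s.fst rfl
    let x : T ⟶ X := Over.homMk s.snd (by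
      show s.snd ≫ X.hom = s.fst ≫ (G ⊗ V₀).hom
      rw [← Over.w f, ← reassoc_of% s.condition, Over.w q])
    have hx : x ≫ f = p ≫ q := Over.OverMorphism.ext s.condition.symm
    let gT : T ⟶ G := p ≫ fst G V₀
    let vT : T ⟶ V₀ := p ≫ snd G V₀
    let x' : T ⟶ X := lift (gT ≫ inv S ≫ incl S) x ≫ a.act
    have hx' : x' ≫ f = (vT ≫ jX) ≫ f := by
      rw [act_comp f hf, hx]
      show lift _ (p ≫ qX ≫ f) ≫ b.act = _
      rw [act_comp f hf, comp_lift_assoc, ← b.lift_mul_act, ← Category.assoc p (fst G V₀), inv_mul_incl, b.lift_one_act]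
      simp [vT, Category.assoc]
    have hr : Set.range x'.left ⊆ Set.range V.ι := by
      rintro _ ⟨r, rfl⟩
      refine ⟨vT.left r, inj ?_⟩
      have := congr(($hx').left r)
      simp only [Over.comp_left, Scheme.Hom.comp_apply] at this
      exact this.symm
    let w : T ⟶ V₀ := Over.homMk (IsOpenImmersion.lift V.ι x'.left hr) (by
      show _ ≫ V.ι ≫ X.hom = _
      rw [IsOpenImmersion.lift_fac_assoc, Over.w])
    have hw : w ≫ jX = x' := Over.OverMorphism.ext (IsOpenImmersion.lift_fac _ _ _)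
    have hwv : w = vT := by
      haveI : Mono jY := (Over.forget S).mono_of_mono_map (inferInstanceAs (Mono jY.left))
      rw [← cancel_mono jY, ← Category.assoc, hw, hx', Category.assoc]
    have : p ≫ qX = x := by
      show p ≫ lift _ _ ≫ a.act = x
      rw [comp_lift_assoc, ← Category.assoc p (snd G V₀) jX, show p ≫ snd G V₀ = w from hwv.symm, hw,
        ← a.lift_mul_act, ← Category.assoc p (fst G V₀), incl_mul_inv, a.lift_one_act]
    exact congrArg (fun z => z.left) this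
  have hP : IsIso f.left := MorphismProperty.of_isPullback_of_descendsAlong
    (P := MorphismProperty.isomorphisms Scheme.{u}) (Q := @Surjective ⊓ @Flat ⊓ @QuasiCompact) hpb
    ⟨⟨inferInstance, inferInstance⟩, inferInstance⟩ (inferInstanceAs (IsIso (𝟙 _)))
  haveI := hP
  haveI : IsIso ((Over.forget S).map f) := hP
  exact isIso_of_reflects_iso f (Over.forget S)

end Groth.Agent.MagnetA1

namespace Groth.Agent.MagnetA1

open AlgebraicGeometry in
theorem flat_over_field (k : Type u) [Field k] {W : Scheme.{u}} (g : W ⟶ Spec (CommRingCat.of k)) : Flat g := by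
  rw [IsZariskiLocalAtSource.iff_of_openCover (P := @Flat) W.affineCover]
  intro i
  obtain ⟨φ, hφ⟩ := Spec.map_surjective (W.affineCover.f i ≫ g)
  refine hφ ▸ ?_
  refine (HasRingHomProperty.Spec_iff (P := @Flat)).2 ?_
  letI := φ.hom.toAlgebra
  exact (RingHom.flat_algebraMap_iff (R := k)).2 inferInstance

end Groth.Agent.MagnetA1
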