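import Groth.Agent.H23.CharPts

/-! Points of the multiplicative affine line `A(ℕ)` and of its torus `A(ℤ)`. -/

noncomputable section

set_option autoImplicit false
set_option linter.style.haveILetI false

universe u

open CategoryTheory CategoryTheory.Limits MonoidalCategory CartesianMonoidalCategory MonObj AlgebraicGeometry Opposite
open Magnet Groth.Agent.H23.CharPts

namespace Groth.Agent.MagnetA1

variable {S : Scheme.{u}} {T T' : Over S}

theorem chi_one {M : Type} [AddCommMonoid M] (m : Multiplicative M) :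
    chi (1 : T ⟶ Magnet.AMonS S M) m = 1 := by
  obtain ⟨e, he⟩ := exists_chi_eq (S := S) (T := T) (M := M) 1
  have h : ∀ x : T ⟶ Magnet.AMonS S M, e * x = x := fun x => chi_injective (MonoidHom.ext fun m => by
    rw [chi_mul, he, MonoidHom.one_apply, _root_.one_mul])
  have h1 := h 1
  rw [_root_.mul_one] at h1
  rw [← h1, he, MonoidHom.one_apply]

/-- The coordinate of a point of `A(ℕ)`. -/
def val (g : T ⟶ Magnet.AMonS S ℕ) : Γ(T.left, ⊤) := chi g (Multiplicative.ofAdd 1)

theorem val_injective {g g' : T ⟶ Magnet.AMonS S ℕ} (h : val g = val g') : g = g' :=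
  chi_injective (MonoidHom.ext_mnat h)

theorem exists_val (r : Γ(T.left, ⊤)) : ∃ g : T ⟶ Magnet.AMonS S ℕ, val g = r := by
  obtain ⟨g, hg⟩ := exists_chi_eq (S := S) (T := T) (M := ℕ) (powersHom _ r)
  exact ⟨g, by rw [val, hg]; exact pow_one r⟩

theorem val_comp (u : T' ⟶ T) (g : T ⟶ Magnet.AMonS S ℕ) : val (u ≫ g) = u.left.appTop (val g) := chi_comp u g _

theorem val_mul (g g' : T ⟶ Magnet.AMonS S ℕ) : val (g * g') = val g * val g' := chi_mul g g' _

theorem val_one : val (1 : T ⟶ Magnet.AMonS S ℕ) = 1 := chi_one _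

/-- The torus inside the line. -/
def incl (S : Scheme.{u}) : Magnet.AMonS S ℤ ⟶ Magnet.AMonS S ℕ :=
  Magnet.AMonS.map S (Nat.castAddMonoidHom ℤ)

/-- Inversion on the torus. -/
def inv (S : Scheme.{u}) : Magnet.AMonS S ℤ ⟶ Magnet.AMonS S ℤ :=
  Magnet.AMonS.map S (-AddMonoidHom.id ℤ)

theorem val_incl (g : T ⟶ Magnet.AMonS S ℤ) : val (g ≫ incl S) = chi g (Multiplicative.ofAdd 1) := by
  rw [val, incl, chi_map]
  rfl

theorem incl_mul_inv (g : T ⟶ Magnet.AMonS S ℤ) : (g ≫ incl S) * (g ≫ inv S ≫ incl S) = 1 := by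
  refine val_injective ?_
  rw [val_mul, val_one, val_incl, ← Category.assoc, val_incl, inv, chi_map, ← map_mul]
  refine (congrArg (chi g) ?_).trans (map_one (chi g))
  rfl

theorem inv_mul_incl (g : T ⟶ Magnet.AMonS S ℤ) : (g ≫ inv S ≫ incl S) * (g ≫ incl S) = 1 := by
  refine val_injective ?_
  rw [val_mul, _root_.mul_comm, ← val_mul, incl_mul_inv]

theorem exists_torus (r : (Γ(T.left, ⊤))ˣ) : ∃ g : T ⟶ Magnet.AMonS S ℤ, val (g ≫ incl S) = r := by
  obtain ⟨g, hg⟩ := exists_chi_eq (S := S) (T := T) (M := ℤ) ((Units.coeHom _).comp (zpowersHom _ r))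
  refine ⟨g, ?_⟩
  rw [val_incl, hg]
  simp

end Groth.Agent.MagnetA1
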